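import Groth.Agent.Lib.ProjDim18.Top
import Groth.Agent.Lib.ProjDim18.HypSupp
import Mathlib.Topology.KrullDimension

/-!
# The dimension of the zero scheme after dropping a form
-/

universe u

open CategoryTheory AlgebraicGeometry TopologicalSpace MvPolynomial

set_option autoImplicit false
set_option linter.style.haveILetI false
set_option backward.isDefEq.respectTransparency false
set_option backward.isDefEq.respectTransparency.types false

noncomputable section

namespace Groth.Agent.CIProj14

attribute [local instance] MvPolynomial.gradedAlgebra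

open Groth.Agent

variable {k : Type u} [Field k] {n : ℕ}

theorem dim_ciIdeal {r : ℕ} {a : Fin r → ℕ} (G : ∀ m : Fin r, LefPen.Form n k (a m)) :
    topologicalKrullDim ↥(LefPen.ciIdeal G).subscheme =
      topologicalKrullDim ↥(ProjectiveSpectrum.zeroLocus (CohB1.polyGrading n k) (Set.range fun m => (G m).1)) := by
  let ι := (LefPen.ciIdeal G).subschemeι
  rw [IsHomeomorph.topologicalKrullDim_eq _ (ι.isEmbedding.toHomeomorph).isHomeomorph]
  have h : Set.range ι = ProjectiveSpectrum.zeroLocus (CohB1.polyGrading n k) (Set.range fun m => (G m).1) := by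
    rw [show Set.range ι = ((LefPen.ciIdeal G).support : Set ↥(CohB1.ProjSpace n k)) from
      (LefPen.ciIdeal G).range_subschemeι, ProjDim18.support_ciIdeal]
  exact IsHomeomorph.topologicalKrullDim_eq _ (Homeomorph.setCongr h).isHomeomorph

/-- Dropping a form from a complete intersection gives a complete intersection. -/
theorem dim_castSucc_le {r : ℕ} {a : Fin (r + 1) → ℕ} (G : ∀ m : Fin (r + 1), LefPen.Form n k (a m))
    (ha : ∀ m, 1 ≤ a m) (hr : r + 1 ≤ n)
    (hdim : topologicalKrullDim ↥(LefPen.ciIdeal G).subscheme ≤ ((n - (r + 1) : ℕ) : WithBot ℕ∞)) :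
    topologicalKrullDim ↥(LefPen.ciIdeal (fun m : Fin r => G m.castSucc)).subscheme ≤
      ((n - r : ℕ) : WithBot ℕ∞) := by
  rw [dim_ciIdeal] at hdim ⊢
  let T := ProjectiveSpectrum (CohB1.polyGrading n k)
  let Z : Set T := ProjectiveSpectrum.zeroLocus (CohB1.polyGrading n k) (Set.range fun m : Fin r => (G m.castSucc).1)
  let Z' : Set T := ProjectiveSpectrum.zeroLocus (CohB1.polyGrading n k) (Set.range fun m : Fin (r + 1) => (G m).1)
  have hZ : IsClosed Z := ProjectiveSpectrum.isClosed_zeroLocus _ _
  by_contra hlt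
  have hge : ((n - r + 1 : ℕ) : WithBot ℕ∞) ≤ topologicalKrullDim ↥Z := by
    have h := not_le.1 hlt
    revert h
    show ((n - r : ℕ) : WithBot ℕ∞) < topologicalKrullDim ↥Z → _
    generalize topologicalKrullDim ↥Z = D
    induction D using WithBot.recBotCoe with
    | bot => intro h; exact absurd h not_lt_bot
    | coe D =>
      induction D using ENat.recTopCoe with
      | top => intro _; exact le_top
      | coe D =>
        intro h
        have h' : n - r < D := Nat.cast_lt.1 (WithBot.coe_lt_coe.1 h)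
        exact WithBot.coe_le_coe.2 (Nat.cast_le.2 (show n - r + 1 ≤ D by omega))
  obtain ⟨x, hxZ, hx⟩ := ProjDim18.exists_coheight_ge k n hZ hge
  let X₀ : Set T := closure {x}
  have hX₀ : IsClosed X₀ := isClosed_closure
  have hsub : X₀ ⊆ Z := closure_minimal (Set.singleton_subset_iff.2 hxZ) hZ
  have hdX : ((n - r + 1 : ℕ) : WithBot ℕ∞) ≤ topologicalKrullDim ↥X₀ :=
    le_trans (WithBot.coe_le_coe.2 hx) (ProjDim18.coheight_le_dim k n hX₀ (subset_closure rfl))
  have h := ProjDim18.codim_components_inter_zeroLocus k n X₀ hX₀ isIrreducible_singleton.closure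
    (fun _ : Fin 1 => (G (Fin.last r)).1) (fun _ => a (Fin.last r))
    (fun _ => (mem_homogeneousSubmodule _ _).1 (G (Fin.last r)).2) (fun _ => ha (Fin.last r))
  obtain ⟨y, hy⟩ := h.2 (le_trans (by exact_mod_cast (Nat.le_add_left 1 (n - r))) hdX)
  let S : Set T := X₀ ∩ ProjectiveSpectrum.zeroLocus (CohB1.polyGrading n k)
    (Set.range fun _ : Fin 1 => (G (Fin.last r)).1)
  have hS : S ⊆ Z' := by
    rintro z ⟨hz1, hz2⟩
    show (Set.range fun m : Fin (r + 1) => (G m).1) ⊆ ↑z.asHomogeneousIdeal
    rintro _ ⟨m, rfl⟩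
    refine Fin.lastCases ?_ (fun m => ?_) m
    · exact hz2 ⟨0, rfl⟩
    · exact hsub hz1 ⟨m, rfl⟩
  have hC := h.1 (irreducibleComponent (⟨y, hy⟩ : ↥S)) (irreducibleComponent_mem_irreducibleComponents _)
  have hCle : topologicalKrullDim ↥(irreducibleComponent (⟨y, hy⟩ : ↥S)) ≤ ((n - (r + 1) : ℕ) : WithBot ℕ∞) :=
    le_trans Topology.IsInducing.subtypeVal.topologicalKrullDim_le
      (le_trans (Topology.IsEmbedding.inclusion hS).isInducing.topologicalKrullDim_le hdim)
  have hfin := hdX.trans (hC.trans (add_le_add hCle le_rfl))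
  have hfin' : n - r + 1 ≤ n - (r + 1) + 1 := by exact_mod_cast hfin
  omega

end Groth.Agent.CIProj14
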