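import Groth.Agent.Lib.CIProj14.Nzd
import Groth.Agent.Lib.CIProj14.Dim
import Groth.Agent.Lib.ClImmProj14.Iso
import Groth.Agent.Lib.DMon9.Mod
import Groth.Agent.Lib.TensorNat17.Basic
import Groth.Agent.Lib.CohFound.SerreVan
import Groth.Agent.Lib.CohFound.AffMor
import Groth.Agent.Lib.CohFound.ProjCech
import Groth.Agent.Lib.CohFound.HHBridge
import Groth.Agent.Lib.VeryAmple11.Univ
import Groth.Agent.Lib.Twist.Tensor
import Groth.Agent.Lib.Twist.Pullback
import Groth.Agent.Lib.TensorMod.PullTensor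
import Groth.Prelude.Def_Twist2

/-!
# Cohomology of twists on complete intersections
-/

universe u

open CategoryTheory CategoryTheory.Limits AlgebraicGeometry TopologicalSpace Opposite MvPolynomial

set_option autoImplicit false
set_option linter.style.haveILetI false
set_option backward.isDefEq.respectTransparency false
set_option backward.isDefEq.respectTransparency.types false

noncomputable section

namespace Groth.Agent.CIProj14

attribute [local instance] MvPolynomial.gradedAlgebra

open Groth.Agent Groth.Agent.M2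

section Closed

variable {Y : Scheme.{u}} (I : Y.IdealSheafData) (L : Y.Modules)

/-- `L ⊗ O_Y → L → i_* i^* L`. -/
theorem unit_eq :
    (tensorRUnit L).hom ≫ (Scheme.Modules.pullbackPushforwardAdjunction I.subschemeι).unit.app L =
      tensorMap (𝟙 L) (ClSub.toSubscheme I) ≫ AmpleFin18.projHom I.subschemeι L (Coh.structureModule I.subscheme) ≫
        (Scheme.Modules.pushforward I.subschemeι).map
          (tensorRUnit ((Scheme.Modules.pullback I.subschemeι).obj L)).hom := by
  let ι := I.subschemeι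
  let T := (Scheme.Modules.pullback ι).obj L
  refine tensorMod_hom_ext fun U s r => ?_
  have h1 : ((tensorRUnit L).hom ≫ (Scheme.Modules.pullbackPushforwardAdjunction ι).unit.app L).app U
      (tsec L (Coh.structureModule Y) s r) = pullSec ι L ((show Γ(Y, U) from r) • s) :=
    (M1.comp_app_apply _ _ _ _).trans (congrArg (fun z => ((Scheme.Modules.pullbackPushforwardAdjunction ι).unit.app L).app U z)
      (DMon9.tensorRUnit_tsec L s r))
  have h2 : (tensorMap (𝟙 L) (ClSub.toSubscheme I)).app U (tsec L (Coh.structureModule Y) s r) =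
      tsec L ((Scheme.Modules.pushforward ι).obj (Coh.structureModule I.subscheme)) s
        (ι.app U (show Γ(Y, U) from r) : Γ(I.subscheme, ι ⁻¹ᵁ U)) :=
    tensorMap_tsec (𝟙 L) (ClSub.toSubscheme I) s r
  refine h1.trans ?_
  refine Eq.trans ?_ (M1.comp_app_apply _ _ _ _).symm
  rw [h2]
  refine Eq.trans ?_ (M1.comp_app_apply _ _ _ _).symm
  rw [AmpleFin18.projHom_tsec]
  refine Eq.trans ?_ (DMon9.tensorRUnit_tsec T (pullSec ι L s) (ι.app U (show Γ(Y, U) from r))).symm
  exact pullSec_smul ι L (show Γ(Y, U) from r) s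

/-- `0 → L ⊗ I → L → i_* i^* L → 0`. -/
theorem exists_shortExact (hL : PicF.IsInvertible L) :
    ∃ S : ShortComplex Y.Modules, S.ShortExact ∧ Nonempty (S.X₁ ≅ CohB1.tensorMod L (ClSub.idealMod I)) ∧
      ∃ (e₂ : S.X₂ ≅ L) (e₃ : S.X₃ ≅ (Scheme.Modules.pushforward I.subschemeι).obj
          ((Scheme.Modules.pullback I.subschemeι).obj L)),
        S.g ≫ e₃.hom = e₂.hom ≫ (Scheme.Modules.pullbackPushforwardAdjunction I.subschemeι).unit.app L := by
  let S₀ : ShortComplex Y.Modules := ShortComplex.mk (ClSub.idealModι I) (ClSub.toSubscheme I) (kernel.condition _)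
  have hS := CohFound.shortExact_tensor_invertible (S := S₀) (shortExact_idealMod I) hL
  haveI := ClImmProj14.isIso_projHom I.subschemeι L (Coh.structureModule I.subscheme)
  let e₃ : CohB1.tensorMod ((Scheme.Modules.pushforward I.subschemeι).obj (Coh.structureModule I.subscheme)) L ≅
      (Scheme.Modules.pushforward I.subschemeι).obj ((Scheme.Modules.pullback I.subschemeι).obj L) :=
    tensorComm _ L ≪≫ asIso (AmpleFin18.projHom I.subschemeι L (Coh.structureModule I.subscheme)) ≪≫
      (Scheme.Modules.pushforward I.subschemeι).mapIso (tensorRUnit _)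
  refine ⟨S₀.map (tensorR L), hS, ⟨tensorComm (ClSub.idealMod I) L⟩,
    tensorComm (Coh.structureModule Y) L ≪≫ tensorRUnit L, e₃, ?_⟩
  show tensorMap (ClSub.toSubscheme I) (𝟙 L) ≫ (tensorComm _ L).hom ≫ _ =
    ((tensorComm _ L).hom ≫ (tensorRUnit L).hom) ≫ _
  rw [Category.assoc, unit_eq, ← Category.assoc, tensorComm_natural, Category.assoc]
  rfl

/-- Vanishing on a closed subscheme. -/
theorem subsingleton_HH_pullback (hL : PicF.IsInvertible L) (p : ℕ) (h₂ : Subsingleton (Coh.HH Y L p))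
    (h₁ : Subsingleton (Coh.HH Y (CohB1.tensorMod L (ClSub.idealMod I)) (p + 1))) :
    Subsingleton (Coh.HH I.subscheme ((Scheme.Modules.pullback I.subschemeι).obj L) p) := by
  obtain ⟨S, hS, ⟨e₁⟩, e₂, e₃, -⟩ := exists_shortExact I L hL
  rw [CohFound.subsingleton_HH_iff] at h₁ h₂ ⊢
  haveI : Subsingleton (CohFound.Hc (S.map (CohFound.abF Y)).X₁ (p + 1) ⊤) := CohFound.subsingleton_hc_of_iso e₁.symm (p + 1) ⊤ h₁
  haveI : Subsingleton (CohFound.Hc (S.map (CohFound.abF Y)).X₂ p ⊤) := CohFound.subsingleton_hc_of_iso e₂.symm p ⊤ h₂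
  have h₃ : Subsingleton (CohFound.Hc ((CohFound.abF Y).obj S.X₃) p ⊤) := by
    refine subsingleton_of_forall_eq 0 fun x => ?_
    obtain ⟨y, rfl⟩ := CohFound.exact₃ (CohFound.shortExact_abF hS) p ⊤ x (Subsingleton.elim _ _)
    rw [Subsingleton.elim y 0, map_zero]
  haveI : ((Scheme.Modules.pullback I.subschemeι).obj L).IsQuasicoherent :=
    Twist.isQCoh_of_isInvertible (Twist.isInvertible_pullback I.subschemeι hL)
  obtain ⟨e⟩ := CohFound.nonempty_hc_push_isAffineHom I.subschemeι ((Scheme.Modules.pullback I.subschemeι).obj L) p ⊤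
  rw [Scheme.Hom.preimage_top] at e
  exact @Equiv.subsingleton _ _ e.toEquiv.symm (CohFound.subsingleton_hc_of_iso e₃ p ⊤ h₃)

/-- Global sections extend. -/
theorem surjective_pullSec (hL : PicF.IsInvertible L)
    (h₁ : Subsingleton (Coh.HH Y (CohB1.tensorMod L (ClSub.idealMod I)) 1)) :
    Function.Surjective (pullSec I.subschemeι L (U := ⊤)) := by
  obtain ⟨S, hS, ⟨e₁⟩, e₂, e₃, he⟩ := exists_shortExact I L hL
  rw [CohFound.subsingleton_HH_iff] at h₁
  haveI : Subsingleton (CohFound.Hc (S.map (CohFound.abF Y)).X₁ (0 + 1) ⊤) := CohFound.subsingleton_hc_of_iso e₁.symm 1 ⊤ h₁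
  intro t
  let t' : Γ(S.X₃, ⊤) := e₃.inv.app ⊤ t
  obtain ⟨y, hy⟩ := CohFound.exact₃ (CohFound.shortExact_abF hS) 0 ⊤
    ((CohFound.hc0 ((CohFound.abF Y).obj S.X₃) ⊤).symm t') (Subsingleton.elim _ _)
  refine ⟨e₂.hom.app ⊤ (CohFound.hc0 ((CohFound.abF Y).obj S.X₂) ⊤ y), ?_⟩
  have h := congrArg (CohFound.hc0 ((CohFound.abF Y).obj S.X₃) ⊤) hy
  rw [AddEquiv.apply_symm_apply] at h
  replace h : S.g.app ⊤ (CohFound.hc0 ((CohFound.abF Y).obj S.X₂) ⊤ y) = t' :=
    ((CohFound.hc0_mp ((CohFound.abF Y).map S.g) ⊤ y).symm).trans h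
  have h' := congrArg (fun φ : S.X₂ ⟶ _ => φ.app ⊤ (CohFound.hc0 ((CohFound.abF Y).obj S.X₂) ⊤ y)) he
  simp only [M1.comp_app_apply] at h'
  rw [h] at h'
  refine h'.symm.trans ?_
  exact congrArg (fun φ : _ ⟶ (Scheme.Modules.pushforward I.subschemeι).obj
    ((Scheme.Modules.pullback I.subschemeι).obj L) => φ.app ⊤ t) e₃.inv_hom_id

end Closed

variable {k : Type u} [Field k] {n : ℕ}

local notation "O(" i ")" => _root_.Twist.twistProjSpace n k i

/-- Cohomology of twists vanishes below degree `m` and global sections extend. -/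
structure Good {X : Scheme.{u}} (j : X ⟶ CohB1.ProjSpace n k) (m : ℕ) : Prop where
  van : ∀ (i : ℤ) (p : ℕ), 0 < p → p < m → Subsingleton (Coh.HH X ((Scheme.Modules.pullback j).obj O(i)) p)
  surj : 1 ≤ m → ∀ i : ℤ, Function.Surjective (pullSec j O(i) (U := ⊤))

theorem isIso_unit_of_isIso {X Y : Scheme.{u}} (e : X ⟶ Y) [IsIso e] (M : Y.Modules) (hM : Coh.IsQCoh M) :
    IsIso ((Scheme.Modules.pullbackPushforwardAdjunction e).unit.app M) :=
  M1.isIso_unit_of_ker_smul e M hM fun U a ha s => by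
    rw [Scheme.Hom.ker_eq_bot_of_isIso e, Scheme.IdealSheafData.ideal_bot] at ha
    rw [show a = 0 from ha, zero_smul]

theorem Good.of_iso {X X' : Scheme.{u}} {j : X ⟶ CohB1.ProjSpace n k} {m : ℕ} (h : Good j m) (e : X' ⟶ X)
    [IsIso e] : Good (e ≫ j) m := by
  haveI : ∀ i : ℤ, IsIso ((Scheme.Modules.pullbackPushforwardAdjunction e).unit.app
      ((Scheme.Modules.pullback j).obj O(i))) := fun i =>
    isIso_unit_of_isIso e _ (Twist.isQCoh_of_isInvertible
      (Twist.isInvertible_pullback j (Twist.isInvertible_twistProjSpace n k i)))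
  refine ⟨fun i p hp hpm => ?_, fun hm i => ?_⟩
  · rw [CohFound.subsingleton_HH_iff]
    refine CohFound.subsingleton_hc_of_iso ((Scheme.Modules.pullbackComp e j).app O(i)) p ⊤ ?_
    have h1 := (CohFound.subsingleton_HH_iff _ _).1 (h.van i p hp hpm)
    haveI : ((Scheme.Modules.pullback e).obj ((Scheme.Modules.pullback j).obj O(i))).IsQuasicoherent :=
      Twist.isQCoh_of_isInvertible (Twist.isInvertible_pullback e
        (Twist.isInvertible_pullback j (Twist.isInvertible_twistProjSpace n k i)))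
    obtain ⟨ε⟩ := CohFound.nonempty_hc_push_isAffineHom e
      ((Scheme.Modules.pullback e).obj ((Scheme.Modules.pullback j).obj O(i))) p ⊤
    rw [Scheme.Hom.preimage_top] at ε
    exact @Equiv.subsingleton _ _ ε.toEquiv.symm (CohFound.subsingleton_hc_of_iso
      (asIso ((Scheme.Modules.pullbackPushforwardAdjunction e).unit.app ((Scheme.Modules.pullback j).obj O(i)))) p ⊤ h1)
  · intro t
    let t' : Γ((Scheme.Modules.pullback e).obj ((Scheme.Modules.pullback j).obj O(i)), ⊤) :=
      ((Scheme.Modules.pullbackComp e j).inv.app O(i)).app ⊤ t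
    have hb : Function.Bijective (((Scheme.Modules.pullbackPushforwardAdjunction e).unit.app
        ((Scheme.Modules.pullback j).obj O(i))).app ⊤) :=
      ConcreteCategory.bijective_of_isIso _
    obtain ⟨u, hu⟩ := hb.2 t'
    obtain ⟨s, rfl⟩ := h.surj hm i u
    refine ⟨s, (ConcreteCategory.bijective_of_isIso
      (((Scheme.Modules.pullbackComp e j).inv.app O(i)).app ⊤)).1 ?_⟩
    exact (VA11.pullbackComp_inv_pullSec e j O(i) s).trans hu

variable {Y : Scheme.{u}} (i : Y ⟶ CohB1.ProjSpace n k) [IsAffineHom i]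

/-- Cutting by a regular form. -/
theorem Good.step {d m : ℕ} (G : LefPen.Form n k d)
    (hnz : ∀ j, i.app (LefPen.chart n k j) (LefPen.dehom G j) ∈ nonZeroDivisors Γ(Y, LefPen13.V i j))
    (h : Good i (m + 1)) : Good (((LefPen.hypIdeal G).comap i).subschemeι ≫ i) m := by
  let I := (LefPen.hypIdeal G).comap i
  obtain ⟨τ⟩ := nonempty_idealMod_iso i G hnz
  have hL : ∀ l : ℤ, PicF.IsInvertible ((Scheme.Modules.pullback i).obj O(l)) := fun l =>
    Twist.isInvertible_pullback i (Twist.isInvertible_twistProjSpace n k l)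
  have hI : ∀ (l : ℤ) (p : ℕ), 0 < p → p < m + 1 →
      Subsingleton (Coh.HH Y (CohB1.tensorMod ((Scheme.Modules.pullback i).obj O(l)) (ClSub.idealMod I)) p) := by
    intro l p hp hpm
    obtain ⟨μ⟩ := Twist.nonempty_tensor_iso (CohB1.polyGrading n k) (m := l) (n := -(d : ℤ))
      (Twist.iSup_basicOpen_one n k)
    have e : CohB1.tensorMod ((Scheme.Modules.pullback i).obj O(l)) (ClSub.idealMod I) ≅
        (Scheme.Modules.pullback i).obj O(l + -(d : ℤ)) :=
      tensorIso (Iso.refl _) τ ≪≫ (pullTensorIso i _ _).symm ≪≫ (Scheme.Modules.pullback i).mapIso μ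
    exact (CohFound.subsingleton_HH_iff _ _).2 (CohFound.subsingleton_hc_of_iso e.symm p ⊤
      ((CohFound.subsingleton_HH_iff _ _).1 (h.van _ p hp hpm)))
  refine ⟨fun l p hp hpm => ?_, fun hm l => ?_⟩
  · rw [CohFound.subsingleton_HH_iff]
    refine CohFound.subsingleton_hc_of_iso ((Scheme.Modules.pullbackComp I.subschemeι i).app O(l)) p ⊤ ?_
    exact (CohFound.subsingleton_HH_iff _ _).1 (subsingleton_HH_pullback I _ (hL l) p
      (h.van l p hp (by omega)) (hI l (p + 1) (Nat.succ_pos _) (by omega)))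
  · intro t
    let t' : Γ((Scheme.Modules.pullback I.subschemeι).obj ((Scheme.Modules.pullback i).obj O(l)), ⊤) :=
      ((Scheme.Modules.pullbackComp I.subschemeι i).inv.app O(l)).app ⊤ t
    obtain ⟨u, hu⟩ := surjective_pullSec I _ (hL l) (hI l 1 one_pos (by omega)) t'
    obtain ⟨s, rfl⟩ := h.surj (by omega) l u
    refine ⟨s, (ConcreteCategory.bijective_of_isIso
      (((Scheme.Modules.pullbackComp I.subschemeι i).inv.app O(l)).app ⊤)).1 ?_⟩
    exact (VA11.pullbackComp_inv_pullSec I.subschemeι i O(l) s).trans hu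

theorem good_id : Good (𝟙 (CohB1.ProjSpace n k)) n := by
  haveI : ∀ l : ℤ, IsIso ((Scheme.Modules.pullbackPushforwardAdjunction (𝟙 (CohB1.ProjSpace n k))).unit.app O(l)) :=
    fun l => isIso_unit_of_isIso _ _ (Twist.isQCoh_twistProjSpace n k l)
  refine ⟨fun l p hp hpn => ?_, fun _ l t => ?_⟩
  · rw [CohFound.subsingleton_HH_iff]
    haveI : ((Scheme.Modules.pullback (𝟙 (CohB1.ProjSpace n k))).obj O(l)).IsQuasicoherent :=
      Twist.isQCoh_of_isInvertible (Twist.isInvertible_pullback _ (Twist.isInvertible_twistProjSpace n k l))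
    obtain ⟨ε⟩ := CohFound.nonempty_hc_push_isAffineHom (𝟙 (CohB1.ProjSpace n k))
      ((Scheme.Modules.pullback (𝟙 (CohB1.ProjSpace n k))).obj O(l)) p ⊤
    rw [Scheme.Hom.preimage_top] at ε
    refine @Equiv.subsingleton _ _ ε.toEquiv.symm (CohFound.subsingleton_hc_of_iso
      (asIso ((Scheme.Modules.pullbackPushforwardAdjunction (𝟙 (CohB1.ProjSpace n k))).unit.app O(l))) p ⊤ ?_)
    exact CohFound.ProjNum.subsingleton_hc_Od (n := n) (R := k) (d := l) p hp (Or.inr (by omega))
  · exact (ConcreteCategory.bijective_of_isIso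
      (((Scheme.Modules.pullbackPushforwardAdjunction (𝟙 (CohB1.ProjSpace n k))).unit.app O(l)).app ⊤)).2 t

theorem isIso_lift {X X' P : Scheme.{u}} (j : X ⟶ P) (j' : X' ⟶ P) [IsClosedImmersion j] [IsClosedImmersion j']
    (h : j.ker = j'.ker) : ∃ (e : X ⟶ X'), IsIso e ∧ e ≫ j' = j := by
  refine ⟨IsClosedImmersion.lift j' j h.ge, ?_, IsClosedImmersion.lift_fac _ _ _⟩
  exact IsClosedImmersion.isIso_of_ker_eq j j' _ (IsClosedImmersion.lift_fac _ _ _) h

theorem ker_comp_eq (J H : (CohB1.ProjSpace n k).IdealSheafData) :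
    ((H.comap J.subschemeι).subschemeι ≫ J.subschemeι).ker = J ⊔ H := by
  refine le_antisymm ?_ (sup_le ?_ ?_)
  · haveI : IsClosedImmersion ((J ⊔ H).subschemeι) := inferInstance
    have hJ : J ≤ (J ⊔ H).subschemeι.ker := by rw [Scheme.IdealSheafData.ker_subschemeι]; exact le_sup_left
    let u := IsClosedImmersion.lift J.subschemeι (J ⊔ H).subschemeι (by rwa [Scheme.IdealSheafData.ker_subschemeι J])
    have hu : u ≫ J.subschemeι = (J ⊔ H).subschemeι := IsClosedImmersion.lift_fac _ _ _
    have h1 : H.comap J.subschemeι ≤ u.ker := by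
      rw [← Scheme.IdealSheafData.le_map_iff_comap_le, Scheme.IdealSheafData.map_ker, hu,
        Scheme.IdealSheafData.ker_subschemeι]
      exact le_sup_right
    let v := IsClosedImmersion.lift (H.comap J.subschemeι).subschemeι u
      (by rwa [Scheme.IdealSheafData.ker_subschemeι])
    have hv : v ≫ (H.comap J.subschemeι).subschemeι ≫ J.subschemeι = (J ⊔ H).subschemeι := by
      rw [← Category.assoc, IsClosedImmersion.lift_fac, hu]
    have := Scheme.Hom.le_ker_comp v ((H.comap J.subschemeι).subschemeι ≫ J.subschemeι)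
    rw [hv, Scheme.IdealSheafData.ker_subschemeι] at this
    exact this
  · have := Scheme.Hom.le_ker_comp (H.comap J.subschemeι).subschemeι J.subschemeι
    rwa [Scheme.IdealSheafData.ker_subschemeι] at this
  · exact Scheme.IdealSheafData.le_map_iff_comap_le.2 le_rfl

theorem ciIdeal_succ {r : ℕ} {a : Fin (r + 1) → ℕ} (G : ∀ m : Fin (r + 1), LefPen.Form n k (a m)) :
    LefPen.ciIdeal G = LefPen.ciIdeal (fun m : Fin r => G m.castSucc) ⊔ LefPen.hypIdeal (G (Fin.last r)) := by
  refine le_antisymm (iSup_le fun m => ?_) (sup_le (iSup_le fun m => le_iSup_of_le m.castSucc le_rfl)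
    (le_iSup_of_le (Fin.last r) le_rfl))
  refine Fin.lastCases le_sup_right (fun m => le_sup_of_le_left (le_iSup_of_le m le_rfl)) m

/-- Complete intersections of dimension `n - r` are good. -/
theorem good_ciIdeal : ∀ (r : ℕ) (a : Fin r → ℕ) (G : ∀ m : Fin r, LefPen.Form n k (a m)),
    (∀ m, 1 ≤ a m) → r ≤ n →
    topologicalKrullDim ↥(LefPen.ciIdeal G).subscheme ≤ ((n - r : ℕ) : WithBot ℕ∞) →
    Good (LefPen.ciIdeal G).subschemeι (n - r) := by
  intro r
  induction r with
  | zero =>
    intro a G _ _ _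
    have hbot : LefPen.ciIdeal G = ⊥ := iSup_of_empty _
    haveI : IsIso (LefPen.ciIdeal G).subschemeι := by rw [hbot]; infer_instance
    have := (good_id (k := k) (n := n)).of_iso (LefPen.ciIdeal G).subschemeι
    rwa [Category.comp_id] at this
  | succ r ih =>
    intro a G ha hr hdim
    let J := LefPen.ciIdeal (fun m : Fin r => G m.castSucc)
    have h0 : Good J.subschemeι (n - (r + 1) + 1) := by
      rw [show n - (r + 1) + 1 = n - r by omega]
      exact ih _ _ (fun m => ha m.castSucc) (by omega) (dim_castSucc_le G ha hr hdim)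
    have h1 := h0.step J.subschemeι (G (Fin.last r)) (last_mem_nonZeroDivisors G hr hdim)
    obtain ⟨e, he, hfac⟩ := isIso_lift (LefPen.ciIdeal G).subschemeι
      (((LefPen.hypIdeal (G (Fin.last r))).comap J.subschemeι).subschemeι ≫ J.subschemeι)
      (by rw [ker_comp_eq, Scheme.IdealSheafData.ker_subschemeι, ciIdeal_succ])
    haveI := he
    have h2 := h1.of_iso e
    rwa [hfac] at h2

end Groth.Agent.CIProj14
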