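import Groth.Agent.Lib.CIProj14.Van
import Groth.Agent.Lib.Twist.GlobalProjSpace

/-!
# Hypersurfaces in projective space
-/

universe u

open CategoryTheory CategoryTheory.Limits AlgebraicGeometry TopologicalSpace Opposite MvPolynomial

set_option autoImplicit false
set_option linter.style.haveILetI false
set_option backward.isDefEq.respectTransparency false
set_option backward.isDefEq.respectTransparency.types false

noncomputable section

namespace Groth.Agent.CIProj14

attribute [local instance] MvPolynomial.gradedAlgebra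

open Groth.Agent Groth.Agent.M2

variable {k : Type u} [Field k] {n : ℕ}

local notation "O(" i ")" => _root_.Twist.twistProjSpace n k i

/-- A nonzero form is a nonzero divisor on every chart. -/
theorem dehom_mem_nonZeroDivisors {d : ℕ} (G : LefPen.Form n k d) (hG : G.1 ≠ 0) (j : Fin (n + 1)) :
    LefPen.dehom G j ∈ nonZeroDivisors Γ(CohB1.ProjSpace n k, LefPen.chart n k j) := by
  haveI : IsIntegral (CohB1.ProjSpace n k) := RegExt.isIntegral_projSpace n k
  let g : ↥(CohB1.ProjSpace n k) :=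
    ProjDim18.mkPt k n ⊥ Ideal.isPrime_bot (Ideal.IsHomogeneous.bot _) (fun hle => by
      have : (MvPolynomial.X 0 : MvPolynomial (Fin (n + 1)) k) ∈ (⊥ : Ideal _) :=
        hle (Ideal.subset_span ⟨0, rfl⟩)
      exact MvPolynomial.X_ne_zero 0 (Ideal.mem_bot.1 this))
  have hmem : ∀ p : MvPolynomial (Fin (n + 1)) k, p ≠ 0 → g ∈ Proj.basicOpen (CohB1.polyGrading n k) p :=
    fun p hp h => hp (Ideal.mem_bot.1 h)
  haveI : Nonempty (LefPen.chart n k j) := ⟨⟨g, hmem _ (MvPolynomial.X_ne_zero j)⟩⟩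
  refine mem_nonZeroDivisors_of_ne_zero fun h => ?_
  have hg : g ∈ (CohB1.ProjSpace n k).basicOpen (LefPen.dehom G j) := by
    rw [ProjDim18.basicOpen_dehom]
    exact ⟨hmem _ (MvPolynomial.X_ne_zero j), hmem _ hG⟩
  rw [h, Scheme.basicOpen_zero] at hg
  exact hg

/-- The ideal of a hypersurface is `O(-d)`. -/
theorem nonempty_idealMod_hypIdeal {d : ℕ} (G : LefPen.Form n k d) (hG : G.1 ≠ 0) :
    Nonempty (ClSub.idealMod (LefPen.hypIdeal G) ≅ O(-(d : ℤ))) := by
  haveI := isIso_unit_of_isIso (𝟙 (CohB1.ProjSpace n k)) O(-(d : ℤ)) (Twist.isQCoh_twistProjSpace n k _)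
  obtain ⟨e⟩ := nonempty_idealMod_iso (𝟙 (CohB1.ProjSpace n k)) G (fun j => dehom_mem_nonZeroDivisors G hG j)
  rw [Scheme.IdealSheafData.comap_id] at e
  exact ⟨e ≪≫ (Scheme.Modules.pullbackId _).app _⟩

variable (I : (CohB1.ProjSpace n k).IdealSheafData) {d : ℕ}
  (hI : Nonempty (ClSub.idealMod I ≅ Twist.twistProjSpace n k (-(d : ℤ))))

include hI in
theorem subsingleton_HH_tensor_idealMod (l : ℤ) (p : ℕ) (hp : 0 < p) (h : -(n : ℤ) ≤ l - d ∨ p ≠ n) :
    Subsingleton (Coh.HH (CohB1.ProjSpace n k) (CohB1.tensorMod O(l) (ClSub.idealMod I)) p) := by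
  obtain ⟨τ⟩ := hI
  obtain ⟨μ⟩ := Twist.nonempty_tensor_iso (CohB1.polyGrading n k) (m := l) (n := -(d : ℤ))
    (Twist.iSup_basicOpen_one n k)
  rw [CohFound.subsingleton_HH_iff]
  exact CohFound.subsingleton_hc_of_iso (tensorIso (Iso.refl O(l)) τ ≪≫ μ).symm p ⊤
    (CohFound.ProjNum.subsingleton_hc_Od (n := n) (R := k) (d := l + -(d : ℤ)) p hp
      (h.imp (fun h => by omega) id))

include hI in
/-- Vanishing of the cohomology of twists on a hypersurface. -/
theorem subsingleton_HH_hyp (l : ℤ) (p : ℕ) (hp : 0 < p) (h₁ : -(n : ℤ) ≤ l ∨ p ≠ n)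
    (h₂ : -(n : ℤ) ≤ l - d ∨ p + 1 ≠ n) :
    Subsingleton (Coh.HH I.subscheme ((Scheme.Modules.pullback I.subschemeι).obj O(l)) p) :=
  subsingleton_HH_pullback I O(l) (Twist.isInvertible_twistProjSpace n k l) p
    ((CohFound.subsingleton_HH_iff _ _).2
      (CohFound.ProjNum.subsingleton_hc_Od (n := n) (R := k) (d := l) p hp h₁))
    (subsingleton_HH_tensor_idealMod I hI l (p + 1) (Nat.succ_pos p) h₂)

/-- If global sections of `O` restrict onto those of `X`, the constants are all the functions. -/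
theorem surjective_appTop {X : Scheme.{u}} (ι : X ⟶ CohB1.ProjSpace n k)
    (hsurj : Function.Surjective (pullSec ι O((0 : ℤ)) (U := ⊤))) :
    Function.Surjective ((ι ≫ CohB1.ProjSpace.toSpec n k).appTop.hom.comp
      (Scheme.ΓSpecIso (CommRingCat.of k)).inv.hom) := by
  intro s
  let g : Γ(O((0 : ℤ)), (⊤ : (CohB1.ProjSpace n k).Opens)) :=
    Twist.frac (CohB1.polyGrading n k) ⊤ (n := 0) (SetLike.one_mem_graded _) (SetLike.one_mem_graded _)
      (by simp) (fun x _ => Twist.one_notMem_prime _ x)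
  have hg : Twist.IsGen O((0 : ℤ)) ⊤ g := fun W hW =>
    Twist.bijective_smul_of_inverse (𝒜 := CohB1.polyGrading n k) (n := 0)
      (Twist.frac (CohB1.polyGrading n k) ⊤ (n := 0) (SetLike.one_mem_graded _) (SetLike.one_mem_graded _)
        (by simp) (fun x _ => Twist.one_notMem_prime _ x))
      (Twist.castSec neg_zero.symm
        (Twist.frac (CohB1.polyGrading n k) ⊤ (n := 0) (SetLike.one_mem_graded _) (SetLike.one_mem_graded _)
          (by simp) (fun x _ => Twist.one_notMem_prime _ x)))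
      (fun x hx => by
        rw [Twist.val_castSec]
        exact Twist.mk_mul_mk_eq_one _ _ _) W hW
  have hgp := hg.pullback ι
  let p := M2.pullSec ι O((0 : ℤ)) g
  obtain ⟨u, hu⟩ := hsurj ((show Γ(X, ι ⁻¹ᵁ ⊤) from s) • p)
  obtain ⟨c, hc⟩ := (hg ⊤ le_rfl).2 u
  have h1 : u = c • g := hc.symm.trans (congrArg (c • ·) (M1.mres_id _ _ _))
  rw [h1, M2.pullSec_smul] at hu
  have h2 : ι.app ⊤ c = s := (hgp (ι ⁻¹ᵁ ⊤) le_rfl).1 (by
    show _ • M1.mres _ _ p = _ • M1.mres _ _ p
    rw [M1.mres_id]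
    exact hu)
  obtain ⟨d, hd⟩ := (Twist.bijective_toSpec_appTop (n := n) (R := k)).2 c
  refine ⟨d, ?_⟩
  show (ι ≫ CohB1.ProjSpace.toSpec n k).appTop ((Scheme.ΓSpecIso (CommRingCat.of k)).inv d) = s
  rw [Scheme.Hom.comp_appTop]
  exact (congrArg (ι.app ⊤) hd).trans h2

end Groth.Agent.CIProj14
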