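import Groth.Agent.Lib.CIProj14.Step
import Groth.Agent.Lib.RegExt.Global
import Groth.Agent.Lib.FormalH7.LocFree
import Groth.Agent.Lib.Depth.More
import Groth.Agent.Lib.Sect6.RegularQuot
import Groth.Agent.Lib.WeilExt.Regular

import Groth.Agent.Lib.CIUnmixed6.Basic
import Groth.Agent.Lib.ProjDeg17.Projection
import Groth.Agent.Lib.VarDim.Scheme
import Groth.Agent.Lib.SecDiv18.Peel
import Groth.Agent.Lib.ProjSpace.Basic

/-!
# Forms cutting out the expected dimension are regular, stepwise
-/

universe u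

open CategoryTheory CategoryTheory.Limits AlgebraicGeometry MvPolynomial TopologicalSpace Order

set_option autoImplicit false
set_option linter.style.haveILetI false
set_option backward.isDefEq.respectTransparency false
set_option backward.isDefEq.respectTransparency.types false

noncomputable section

namespace Groth.Agent.CIProj14

attribute [local instance] MvPolynomial.gradedAlgebra

open Groth.Agent

variable {k : Type u} [Field k] {n : ℕ}

local notation "PS" => CohB1.ProjSpace n k

theorem ringKrullDim_chart (j : Fin (n + 1)) :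
    ringKrullDim Γ(PS, LefPen.chart n k j) = (n : WithBot ℕ∞) := by
  rw [show LefPen.chart n k j = (ProjSpace.chart n k j).opensRange from (ProjSpace.opensRange_chart n k j).symm]
  have e1 : CommRingCat.of (MvPolynomial {l : Fin (n + 1) // l ≠ j} k) ≅
      Γ(PS, (ProjSpace.chart n k j).opensRange) :=
    (Scheme.ΓSpecIso _).symm ≪≫ IsOpenImmersion.ΓIsoTop (ProjSpace.chart n k j)
  rw [← ringKrullDim_eq_of_ringEquiv e1.commRingCatIsoToRingEquiv,
    MvPolynomial.ringKrullDim_of_isNoetherianRing, ringKrullDim_eq_zero_of_field]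
  simp

theorem height_add_sdim (j : Fin (n + 1)) (z : ↥(PS)) (hz : z ∈ LefPen.chart n k j) :
    ((ProjDim18.isAffineOpen_chart (k := k) j).primeIdealOf ⟨z, hz⟩).asIdeal.height +
      (VarDim.sdim (CohB1.ProjSpace.toSpec n k) z : ℕ∞) = (n : ℕ∞) := by
  have hU := ProjDim18.isAffineOpen_chart (k := k) (r := n) j
  haveI : Nonempty (LefPen.chart n k j) := ⟨⟨z, hz⟩⟩
  haveI : IsIntegral (PS) := RegExt.isIntegral_projSpace n k
  haveI : IsProper (CohB1.ProjSpace.toSpec n k) := ProjSpace.isProper_toSpec n k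
  letI : Algebra k Γ(PS, LefPen.chart n k j) :=
    (VarDim.baseToSections (CohB1.ProjSpace.toSpec n k) (LefPen.chart n k j)).toAlgebra
  haveI : Algebra.FiniteType k Γ(PS, LefPen.chart n k j) :=
    VarDim.finiteType_baseToSections (CohB1.ProjSpace.toSpec n k) hU
  have h := VarDim.height_add_coheight k Γ(PS, LefPen.chart n k j) (hU.primeIdealOf ⟨z, hz⟩)
  rw [ringKrullDim_chart, VarDim.sdim_eq_coheight (CohB1.ProjSpace.toSpec n k) hU z hz] at h
  rw [PrimeSpectrum.height_eq_orderHeight]
  exact WithBot.coe_inj.1 h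

variable {r : ℕ} {a : Fin r → ℕ}

theorem ciIdeal_chart (G : ∀ m : Fin r, LefPen.Form n k (a m)) (j : Fin (n + 1)) :
    (LefPen.ciIdeal G).ideal ⟨LefPen.chart n k j, ProjDim18.isAffineOpen_chart j⟩ =
      Ideal.span (Set.range fun m => LefPen.dehom (G m) j) := by
  rw [LefPen.ciIdeal, Scheme.IdealSheafData.ideal_iSup, iSup_apply, ← Set.iUnion_singleton_eq_range,
    Ideal.span_iUnion]
  exact iSup_congr fun m => LefPen13.hypIdeal_chart (G m) j

/-- A prime of a chart containing the dehomogenised forms is small if their zero scheme is. -/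
theorem le_height (G : ∀ m : Fin r, LefPen.Form n k (a m)) (hr : r ≤ n)
    (hdim : topologicalKrullDim ↥(LefPen.ciIdeal G).subscheme ≤ ((n - r : ℕ) : WithBot ℕ∞))
    (j : Fin (n + 1)) (q : Ideal Γ(PS, LefPen.chart n k j)) [q.IsPrime]
    (hq : ∀ m, LefPen.dehom (G m) j ∈ q) : (r : ℕ∞) ≤ q.height := by
  have hU := ProjDim18.isAffineOpen_chart (k := k) (r := n) j
  let z : ↥(PS) := hU.fromSpec ⟨q, inferInstance⟩
  have hz : z ∈ LefPen.chart n k j := hU.range_fromSpec.le ⟨_, rfl⟩
  have hp : hU.primeIdealOf ⟨z, hz⟩ = ⟨q, inferInstance⟩ :=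
    hU.fromSpec.isOpenEmbedding.injective (hU.fromSpec_primeIdealOf ⟨z, hz⟩)
  have hzs : z ∈ ((LefPen.ciIdeal G).support : Set ↥(PS)) := by
    rw [SetLike.mem_coe, Scheme.IdealSheafData.mem_support_iff_of_mem (U := ⟨_, hU⟩) hz, ciIdeal_chart,
      Scheme.zeroLocus_span, Scheme.mem_zeroLocus_iff]
    rintro _ ⟨m, rfl⟩ hb
    have := (M1.isUnit_germ_iff hU hz _).1 (((PS).mem_basicOpen _ z hz).1 hb)
    rw [hp] at this
    exact this (hq m)
  rw [← (LefPen.ciIdeal G).range_subschemeι] at hzs
  obtain ⟨w, hw⟩ := hzs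
  let f := CohB1.ProjSpace.toSpec n k
  haveI : IsProper f := ProjSpace.isProper_toSpec n k
  have h1 : ((VarDim.sdim ((LefPen.ciIdeal G).subschemeι ≫ f) w : ℕ) : WithBot ℕ∞) ≤ ((n - r : ℕ) : WithBot ℕ∞) :=
    le_trans (le_of_le_of_eq (le_iSup (fun w => ((VarDim.sdim _ w : ℕ) : WithBot ℕ∞)) w)
      (VarDim.dim_eq_iSup_sdim ((LefPen.ciIdeal G).subschemeι ≫ f)).symm) hdim
  rw [VarDim.sdim_comp_of_surjective, show (LefPen.ciIdeal G).subschemeι w = z from hw] at h1
  have h2 : VarDim.sdim f z ≤ n - r := by exact_mod_cast h1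
  have h3 := height_add_sdim j z hz
  rw [hp] at h3
  cases hh : q.height with
  | top => exact le_top
  | coe b =>
    change q.height + _ = _ at h3
    rw [hh] at h3
    have : b + VarDim.sdim f z = n := by exact_mod_cast h3
    exact_mod_cast (show r ≤ b by omega)

theorem mem_nonZeroDivisors_of_germ {Y : Scheme.{u}} {U : Y.Opens} (b : Γ(Y, U))
    (h : ∀ (y : Y) (hy : y ∈ U), Y.presheaf.germ U y hy b ∈ nonZeroDivisors (Y.presheaf.stalk y)) :
    b ∈ nonZeroDivisors Γ(Y, U) := by
  refine mem_nonZeroDivisors_iff_right.2 fun c hc => ?_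
  refine TopCat.Presheaf.section_ext Y.sheaf U c 0 fun y hy => ?_
  rw [map_zero]
  refine (mem_nonZeroDivisors_iff_right.1 (h y hy)) _ ?_
  exact ((map_mul (Y.presheaf.germ U y hy).hom c b).symm.trans (congrArg _ hc)).trans (map_zero _)

end Groth.Agent.CIProj14

namespace Groth.Agent.CIProj14

attribute [local instance] MvPolynomial.gradedAlgebra

open Groth.Agent

variable {k : Type u} [Field k] {n r : ℕ} {a : Fin (r + 1) → ℕ}

/-- The last of `r + 1` forms cutting out dimension `≤ n - (r + 1)` is regular on the zero scheme of the others. -/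
theorem last_mem_nonZeroDivisors (G : ∀ m : Fin (r + 1), LefPen.Form n k (a m)) (hr : r + 1 ≤ n)
    (hdim : topologicalKrullDim ↥(LefPen.ciIdeal G).subscheme ≤ ((n - (r + 1) : ℕ) : WithBot ℕ∞))
    (j : Fin (n + 1)) :
    (LefPen.ciIdeal (fun m : Fin r => G m.castSucc)).subschemeι.app (LefPen.chart n k j)
        (LefPen.dehom (G (Fin.last r)) j) ∈
      nonZeroDivisors Γ((LefPen.ciIdeal (fun m : Fin r => G m.castSucc)).subscheme,
        (LefPen.ciIdeal (fun m : Fin r => G m.castSucc)).subschemeι ⁻¹ᵁ LefPen.chart n k j) := by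
  let J := LefPen.ciIdeal (fun m : Fin r => G m.castSucc)
  let i := J.subschemeι
  let U : (CohB1.ProjSpace n k).affineOpens := ⟨LefPen.chart n k j, ProjDim18.isAffineOpen_chart j⟩
  refine mem_nonZeroDivisors_of_germ _ fun y hy => ?_
  rw [← Scheme.Hom.germ_stalkMap_apply i U.1 y hy]
  let A := (CohB1.ProjSpace n k).presheaf.stalk (i y)
  let γ := ((CohB1.ProjSpace n k).presheaf.germ U.1 (i y) hy).hom
  let g : Fin (r + 1) → A := fun m => γ (LefPen.dehom (G m) j)
  by_cases hg : g (Fin.last r) ∈ IsLocalRing.maximalIdeal A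
  swap
  · exact (IsUnit.map (i.stalkMap y).hom (IsLocalRing.notMem_maximalIdeal.1 hg)).mem_nonZeroDivisors
  have hker : RingHom.ker (i.stalkMap y).hom = Ideal.span (Set.range fun m : Fin r => g m.castSucc) := by
    rw [FormalH7.ker_stalkMap_subscheme J U y hy, ciIdeal_chart, Ideal.map_span, ← Set.range_comp]
    rfl
  haveI : IsRegularLocalRing A :=
    WeilExt.isRegularLocalRing_of_smooth (CohB1.ProjSpace.toSpec n k)
      (fun s => WeilExt.isRegularLocalRing_stalk_Spec (CommRingCat.of k) s) (i y)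
  haveI : IsRegularRing A := CIUnmixed6.isRegularRing_of_local A
  have hmem : ∀ x ∈ List.ofFn g, x ∈ IsLocalRing.maximalIdeal A := by
    intro x hx
    obtain ⟨m, rfl⟩ := List.mem_ofFn.1 hx
    refine Fin.lastCases hg (fun m => ?_) m
    refine IsLocalRing.le_maximalIdeal (RingHom.ker_ne_top (i.stalkMap y).hom) ?_
    rw [hker]
    exact Ideal.subset_span ⟨m, rfl⟩
  have hwr : RingTheory.Sequence.IsWeaklyRegular A (List.ofFn g) := by
    refine DepthLib.isWeaklyRegular_of_length_le_idealDepth _ hmem ?_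
    rw [Sect6.natCast_le_idealDepth_iff, List.length_ofFn]
    intro P hP hle
    let alg := TopCat.Presheaf.algebra_section_stalk (CohB1.ProjSpace n k).presheaf (⟨i y, hy⟩ : U.1)
    haveI := U.2.isLocalization_stalk ⟨i y, hy⟩
    let q : Ideal Γ(CohB1.ProjSpace n k, U.1) := P.comap γ
    haveI : q.IsPrime := inferInstanceAs (P.comap γ).IsPrime
    have h1 := le_height G hr hdim j q fun m => by
      exact hle (Ideal.subset_span (List.mem_ofFn.2 ⟨m, rfl⟩))
    refine h1.trans (le_of_eq ?_)
    exact IsLocalization.height_comap (U.2.primeIdealOf ⟨i y, hy⟩).asIdeal.primeCompl P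
  have hsplit : List.ofFn g = List.ofFn (fun m : Fin r => g m.castSucc) ++ [g (Fin.last r)] := by
    rw [List.ofFn_succ', List.concat_eq_append]
  rw [hsplit, RingTheory.Sequence.isWeaklyRegular_append_iff, RingTheory.Sequence.isWeaklyRegular_singleton_iff] at hwr
  refine mem_nonZeroDivisors_iff_right.2 fun c hc => ?_
  obtain ⟨c, rfl⟩ := i.stalkMap_surjective y c
  have hker' : ∀ z : A, i.stalkMap y z = 0 ↔
      z ∈ (Ideal.ofList (List.ofFn fun m : Fin r => g m.castSucc) • ⊤ : Submodule A A) := fun z => by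
    rw [smul_eq_mul, Ideal.mul_top,
      show Ideal.ofList (List.ofFn fun m : Fin r => g m.castSucc) = Ideal.span (Set.range fun m : Fin r => g m.castSucc) from
        congrArg Ideal.span (Set.ext fun x => List.mem_ofFn), ← hker]
    exact RingHom.mem_ker.symm
  rw [hker', ← Submodule.Quotient.mk_eq_zero]
  refine hwr.2.right_eq_zero_of_smul ?_
  rw [← Submodule.Quotient.mk_smul, Submodule.Quotient.mk_eq_zero, ← hker', smul_eq_mul, map_mul, mul_comm]
  exact hc

end Groth.Agent.CIProj14
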