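import Groth.Agent.Lib.CIProj14.Conormal
import Groth.Agent.Lib.Euler2.PnDet
import Groth.Agent.Lib.SmImm2.Main
import Groth.Agent.Lib.DetSES2.Exist
import Groth.Agent.Lib.SmDim19.RelDimVariety
import Groth.Agent.Lib.TensorMod.PullTensor
import Groth.Agent.Lib.Twist.Pullback
import Groth.Agent.S7772

/-!
The canonical sheaf of a smooth complete intersection of two quadrics in projective four-space.
-/

set_option autoImplicit false
set_option linter.style.haveILetI false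
set_option backward.isDefEq.respectTransparency false
set_option backward.isDefEq.respectTransparency.types false
set_option maxHeartbeats 1600000
set_option synthInstance.maxHeartbeats 400000

universe u

open CategoryTheory CategoryTheory.Limits AlgebraicGeometry TopologicalSpace

noncomputable section

namespace Groth.Agent.CIProj14

open Groth.Agent

/-- The two summand short complex. -/
theorem exists_ses_coprod_two {X : Scheme.{u}} (F : Fin 2 → X.Modules) {M : X.Modules} (e : M ≅ ∐ F) :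
    ∃ S : ShortComplex X.Modules, S.ShortExact ∧ S.X₁ = F 0 ∧ S.X₂ = M ∧ S.X₃ = F 1 := by
  classical
  let π : ∀ i, (∐ F) ⟶ F i := fun i => Sigma.desc fun j => if h : j = i then eqToHom (congrArg F h) else 0
  have hπ : ∀ i, Sigma.ι F i ≫ π i = 𝟙 (F i) := fun i => by simp [π]
  have hπ' : ∀ i j, j ≠ i → Sigma.ι F j ≫ π i = 0 := fun i j h => by simp [π, h]
  let S : ShortComplex X.Modules := ShortComplex.mk (Sigma.ι F 0 ≫ e.inv) (e.hom ≫ π 1) (by
    rw [Category.assoc, e.inv_hom_id_assoc]; exact hπ' 1 0 (by decide))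
  refine ⟨S, (show S.Splitting from
    { r := e.hom ≫ π 0
      s := Sigma.ι F 1 ≫ e.inv
      f_r := by simp [S, hπ 0]
      s_g := by simp [S, hπ 1]
      id := ?_ }).shortExact, rfl, rfl, rfl⟩
  show (e.hom ≫ π 0) ≫ Sigma.ι F 0 ≫ e.inv + (e.hom ≫ π 1) ≫ Sigma.ι F 1 ≫ e.inv = 𝟙 M
  have h : π 0 ≫ Sigma.ι F 0 + π 1 ≫ Sigma.ι F 1 = 𝟙 (∐ F) := by
    refine Sigma.hom_ext _ _ fun j => ?_
    fin_cases j <;> simp [reassoc_of% (hπ 0), reassoc_of% (hπ 1), reassoc_of% (hπ' 1 0 (by decide)), reassoc_of% (hπ' 0 1 (by decide))]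
  calc (e.hom ≫ π 0) ≫ Sigma.ι F 0 ≫ e.inv + (e.hom ≫ π 1) ≫ Sigma.ι F 1 ≫ e.inv
      = e.hom ≫ (π 0 ≫ Sigma.ι F 0 + π 1 ≫ Sigma.ι F 1) ≫ e.inv := by
        simp only [Preadditive.comp_add, Preadditive.add_comp, Category.assoc]
    _ = 𝟙 M := by rw [h, Category.id_comp, e.hom_inv_id]

theorem nonempty_canonical_two_quadrics (k : Type u) [Field k] (X : Scheme.{u})
    [X.Over (Spec (CommRingCat.of k))] [IsIntegral X] [Smooth (X ↘ (Spec (CommRingCat.of k)))] (hdim : topologicalKrullDim X = 2)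
    (ι : X ⟶ CohB1.ProjSpace 4 k) [IsClosedImmersion ι] (hι : ι ≫ CohB1.ProjSpace.toSpec 4 k = X ↘ (Spec (CommRingCat.of k)))
    (G : Fin 2 → LefPen.Form 4 k 2) (hker : ι.ker = LefPen.ciIdeal G) [QuasiSeparated (X ↘ (Spec (CommRingCat.of k)))]
    (W : X.Modules) (hW : ExtPow.IsExtPow 2 (Omega.sheaf (X ↘ (Spec (CommRingCat.of k)))) W) :
    Nonempty (W ≅ (Scheme.Modules.pullback ι).obj (_root_.Twist.twistProjSpace 4 k (-1))) := by
  haveI := ProjSpace.smoothOfRelativeDimension_toSpec 4 k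
  haveI : SmoothOfRelativeDimension 2 (X ↘ (Spec (CommRingCat.of k))) :=
    SmDim19.smoothOfRelativeDimension_of_smooth (X ↘ (Spec (CommRingCat.of k))) 2 hdim
  haveI : QuasiSeparated (ι ≫ CohB1.ProjSpace.toSpec 4 k) := by rw [hι]; infer_instance
  haveI : SmoothOfRelativeDimension 2 (ι ≫ CohB1.ProjSpace.toSpec 4 k) := by rw [hι]; infer_instance
  -- `X` is the complete intersection
  let eX : X ≅ (LefPen.ciIdeal G).subscheme := asIso ι.toImage ≪≫ eqToIso (congrArg Scheme.IdealSheafData.subscheme hker)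
  have heX : eX.hom ≫ (LefPen.ciIdeal G).subschemeι = ι := by
    have aux : ∀ (I : (CohB1.ProjSpace 4 k).IdealSheafData) (h : ι.ker = I),
        (asIso ι.toImage ≪≫ eqToIso (congrArg Scheme.IdealSheafData.subscheme h)).hom ≫ I.subschemeι = ι := by
      rintro I rfl
      simp only [Iso.trans_hom, eqToIso_refl, Iso.refl_hom, Category.comp_id, asIso_hom]
      exact ι.toImage_imageι
    exact aux _ hker
  have hY : topologicalKrullDim ↥(LefPen.ciIdeal G).subscheme = ((4 - 2 : ℕ) : WithBot ℕ∞) := by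
    rw [← IsHomeomorph.topologicalKrullDim_eq _ eX.hom.homeomorph.isHomeomorph, hdim]
    rfl
  obtain ⟨eC⟩ := nonempty_conormal_ci G (fun _ => (by norm_num : 1 ≤ 2)) (by norm_num) hY
  let O : ℤ → (CohB1.ProjSpace 4 k).Modules := fun d => _root_.Twist.twistProjSpace 4 k d
  let P : ℤ → X.Modules := fun d => (Scheme.Modules.pullback ι).obj (O d)
  let e₁ : Omega.conormal ι ≅ ∐ fun _ : Fin 2 => P (-2) :=
    (Scheme.Modules.pullbackCongr heX.symm).app _ ≪≫ ((Scheme.Modules.pullbackComp eX.hom (LefPen.ciIdeal G).subschemeι).app _).symm ≪≫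
      (Scheme.Modules.pullback eX.hom).mapIso ((Scheme.Modules.pullback (LefPen.ciIdeal G).subschemeι).mapIso
        (eqToIso (congrArg ClSub.idealMod (hker.trans (LefPen.ciIdeal G).ker_subschemeι.symm))) ≪≫ eC) ≪≫
      (PreservesCoproduct.iso (Scheme.Modules.pullback eX.hom) _) ≪≫
      Limits.Sigma.mapIso fun i => (Scheme.Modules.pullbackComp eX.hom (LefPen.ciIdeal G).subschemeι).app (O (-2)) ≪≫
        (Scheme.Modules.pullbackCongr heX).app _
  have hinv : ∀ d, PicF.IsInvertible (P d) := fun d => Twist.isInvertible_pullback ι (Twist.isInvertible_twistProjSpace 4 k d)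
  have h1 : FlatMod.IsFinLocFreeOfRank 1 (P (-2)) := (M2.isInvertible_iff_isFinLocFreeOfRank_one _).1 (hinv (-2))
  obtain ⟨S, hS, hS₁, hS₂, hS₃⟩ := exists_ses_coprod_two (fun _ : Fin 2 => P (-2)) e₁
  obtain ⟨T, hT, hT₁, hT₂, hT₃, hC, hX', hY'⟩ := SmImm2.exists_conormal_ses (CohB1.ProjSpace.toSpec 4 k) ι 4 2
  have hL : ExtPow.IsExtPow 2 (Omega.conormal ι) (CohB1.tensorMod (P (-2)) (P (-2))) := by
    rw [← hS₂]
    exact DetSES2.isExtPow_tensor_middle S hS rfl (by rw [hS₁]; exact h1)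
      (by rw [hS₂]; exact SmImm2.isFinLocFree_of_rank hC) (by rw [hS₃]; exact h1)
      (by rw [hS₁]; exact ExtFil4.isExtPow_one _) (by rw [hS₃]; exact ExtFil4.isExtPow_one _)
      (M2.isFinLocFree_of_isInvertible (hinv _)) (M2.isFinLocFree_of_isInvertible (hinv _))
  have hΩ : ExtPow.IsExtPow 2 (Omega.sheaf (ι ≫ CohB1.ProjSpace.toSpec 4 k)) W := by
    have aux : ∀ (g : X ⟶ Spec (CommRingCat.of k)) [QuasiSeparated g], g = X ↘ (Spec (CommRingCat.of k)) →
        ExtPow.IsExtPow 2 (Omega.sheaf g) W := by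
      intro g _ h; subst h; exact hW
    exact aux _ hι
  haveI : Smooth (CohB1.ProjSpace.toSpec 4 k) := SmoothOfRelativeDimension.smooth 4 _
  haveI : Coh.IsQCoh (Omega.sheaf (CohB1.ProjSpace.toSpec 4 k)) :=
    M2.isQCoh_of_isFinLocFree (Omega12.isFinLocFree_receptacle_of_smooth (CohB1.ProjSpace.toSpec 4 k)
      (Omega12.isUniversal_dOmega (f := CohB1.ProjSpace.toSpec 4 k)))
  obtain ⟨e₂⟩ := Euler2.nonempty_det_omega_projSpace 4 k
    (Wedge2.isExtPow_extMod 4 (Omega.sheaf (CohB1.ProjSpace.toSpec 4 k)))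
  obtain ⟨e₃⟩ := (S7772.result (Spec (CommRingCat.of k)) (CohB1.ProjSpace 4 k) X (CohB1.ProjSpace.toSpec 4 k)
    (ι ≫ CohB1.ProjSpace.toSpec 4 k) 4 2 (by norm_num) ι rfl _
    (Wedge2.isExtPow_extMod 4 (Omega.sheaf (CohB1.ProjSpace.toSpec 4 k))) W hΩ _ hL).2
  let 𝒜 := CohB1.polyGrading 4 k
  have hcov := Twist.iSup_basicOpen_one 4 k
  obtain ⟨t0⟩ := Twist.nonempty_twist_zero_iso 𝒜
  obtain ⟨t1⟩ := Twist.nonempty_tensor_iso 𝒜 (-2 : ℤ) (-2) hcov
  obtain ⟨t2⟩ := Twist.nonempty_tensor_iso 𝒜 ((-2 : ℤ) + -2) 4 hcov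
  obtain ⟨t3⟩ := Twist.nonempty_tensor_iso 𝒜 (-5 : ℤ) 4 hcov
  let u : CohB1.tensorMod (CohB1.tensorMod (P (-2)) (P (-2))) (P 4) ≅ Coh.structureModule X :=
    M2.tensorIso (M2.pullTensorIso ι (O (-2)) (O (-2))).symm (Iso.refl _) ≪≫ (M2.pullTensorIso ι _ (O 4)).symm ≪≫
      (Scheme.Modules.pullback ι).mapIso (M2.tensorIso t1 (Iso.refl _) ≪≫ t2 ≪≫
        eqToIso (congrArg (_root_.Twist.twist 𝒜) (by norm_num)) ≪≫ t0) ≪≫ Twist.pullbackUnitIso ι
  exact ⟨(M2.tensorRUnit W).symm ≪≫ M2.tensorIso (Iso.refl W) u.symm ≪≫ (M2.tensorAssoc _ _ _).symm ≪≫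
    M2.tensorIso (e₃.symm ≪≫ (Scheme.Modules.pullback ι).mapIso e₂) (Iso.refl (P 4)) ≪≫
    (M2.pullTensorIso ι _ (O 4)).symm ≪≫ (Scheme.Modules.pullback ι).mapIso
      (eqToIso (congrArg (fun d => CohB1.tensorMod (_root_.Twist.twist 𝒜 d) (O 4)) (by norm_num)) ≪≫ t3 ≪≫
        eqToIso (congrArg (_root_.Twist.twist 𝒜) (by norm_num)))⟩

end Groth.Agent.CIProj14
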