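import Groth.Agent.Lib.LefPen13.Chart
import Groth.Agent.Lib.Twist.Gen
import Groth.Agent.Lib.Twist.QCoh
import Groth.Agent.Lib.TensorMod.IdealMod
import Groth.Agent.Lib.TensorMod.PullStalk

/-!
# The ideal of a hypersurface section by a regular form is a twist
-/

universe u

open CategoryTheory CategoryTheory.Limits AlgebraicGeometry MvPolynomial TopologicalSpace

set_option autoImplicit false
set_option linter.style.haveILetI false
set_option backward.isDefEq.respectTransparency false
set_option backward.isDefEq.respectTransparency.types false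

noncomputable section

namespace Groth.Agent.CIProj14

attribute [local instance] MvPolynomial.gradedAlgebra

open Groth.Agent

variable {k : Type u} [Field k] {n : ℕ}

local notation "GR" => CohB1.polyGrading n k
local notation "PS" => CohB1.ProjSpace n k

theorem Xpow_mem (d : ℕ) (j : Fin (n + 1)) : (X j : MvPolynomial (Fin (n + 1)) k) ^ d ∈ GR d := by
  have := SetLike.pow_mem_graded d (LefPen.X_mem n k j)
  rwa [smul_eq_mul, mul_one] at this

/-- The section `1 / X_j ^ d` of `O(-d)` on the `j`-th chart. -/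
def gen (d : ℕ) (j : Fin (n + 1)) :
    Γ(_root_.Twist.twistProjSpace n k (-(d : ℤ)), LefPen.chart n k j) :=
  Twist.frac GR (LefPen.chart n k j) (n := -(d : ℤ)) (SetLike.one_mem_graded GR) (Xpow_mem d j) (by simp)
    (fun _ hx => Twist.pow_notMem GR hx d)

theorem isGen_gen (d : ℕ) (j : Fin (n + 1)) :
    Twist.IsGen (_root_.Twist.twistProjSpace n k (-(d : ℤ))) (LefPen.chart n k j) (gen d j) := fun W hW =>
  Twist.bijective_smul_of_inverse (𝒜 := GR) (n := -(d : ℤ))
    (Twist.frac GR (LefPen.chart n k j) (n := -(d : ℤ)) (SetLike.one_mem_graded GR) (Xpow_mem d j) (by simp)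
      (fun _ hx => Twist.pow_notMem GR hx d))
    (Twist.frac GR (LefPen.chart n k j) (n := - -(d : ℤ)) (Xpow_mem d j) (SetLike.one_mem_graded GR) (by simp)
      (fun x _ => Twist.one_notMem_prime GR x))
    (fun x hx => by
      erw [Twist.val_frac, Twist.val_frac, Localization.mk_mul]
      rw [← Localization.mk_one, Localization.mk_eq_mk_iff, Localization.r_iff_exists]
      exact ⟨1, by simp⟩) W hW

/-- The change of chart of the sections `1 / X_j ^ d`. -/
theorem gen_rel (d : ℕ) (j l : Fin (n + 1)) (W : (PS).Opens) (hj : W ≤ LefPen.chart n k j)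
    (hl : W ≤ LefPen.chart n k l) :
    M1.mres (_root_.Twist.twistProjSpace n k (-(d : ℤ))) hj (gen d j) =
      ((PS).presheaf.map (homOfLE hj).op
          (LefPen.dehom (⟨X l, LefPen.X_mem n k l⟩ : LefPen.Form n k 1) j) ^ d) •
        M1.mres (_root_.Twist.twistProjSpace n k (-(d : ℤ))) hl (gen d l) := by
  refine Twist.sec_ext fun x hx => ?_
  refine Eq.trans ?_ (Twist.val_smul _ _ x hx).symm
  erw [Twist.valO_pow, Twist.valO_map]
  simp only [LefPen.dehom]
  erw [Twist.valO_awayToSection GR (LefPen.X_mem n k j) _ x (hj hx) (Twist.pow_notMem GR (hj hx) 1)]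
  show Localization.mk 1 _ = Localization.mk _ _ ^ d * Localization.mk 1 _
  rw [Localization.mk_pow, Localization.mk_mul, Localization.mk_eq_mk_iff, Localization.r_iff_exists]
  exact ⟨1, by simp⟩

variable {Y : Scheme.{u}} (i : Y ⟶ CohB1.ProjSpace n k) [IsAffineHom i]

theorem comap_hypIdeal_chart {d : ℕ} (G : LefPen.Form n k d) (j : Fin (n + 1)) :
    ((LefPen.hypIdeal G).comap i).ideal ⟨LefPen13.V i j, LefPen13.isAffineOpen_V i j⟩ =
      Ideal.span {i.app (LefPen.chart n k j) (LefPen.dehom G j)} := by
  rw [EffCartier.comap_ideal (LefPen.hypIdeal G) i ⟨_, ProjDim18.isAffineOpen_chart j⟩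
    ⟨LefPen13.V i j, LefPen13.isAffineOpen_V i j⟩ le_rfl, LefPen13.hypIdeal_chart, Ideal.map_span,
    Set.image_singleton, ← Scheme.Hom.app_eq_appLE]

/-- The ideal of the section of `Y` by a form of degree `d` regular on `Y` is `i^* O(-d)`. -/
theorem nonempty_idealMod_iso {d : ℕ} (G : LefPen.Form n k d)
    (hnz : ∀ j, i.app (LefPen.chart n k j) (LefPen.dehom G j) ∈ nonZeroDivisors Γ(Y, LefPen13.V i j)) :
    Nonempty (ClSub.idealMod ((LefPen.hypIdeal G).comap i) ≅
      (Scheme.Modules.pullback i).obj (_root_.Twist.twistProjSpace n k (-(d : ℤ)))) := by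
  let I := (LefPen.hypIdeal G).comap i
  let P := (Scheme.Modules.pullback i).obj (_root_.Twist.twistProjSpace n k (-(d : ℤ)))
  let f : ∀ j, Γ(Y, LefPen13.V i j) := fun j => i.app (LefPen.chart n k j) (LefPen.dehom G j)
  have hq : ∀ j, ∃ a : Γ(ClSub.idealMod I, LefPen13.V i j), M2.idealIncl I a = f j := fun j => by
    show f j ∈ Set.range _
    rw [M2.range_idealIncl I ⟨LefPen13.V i j, LefPen13.isAffineOpen_V i j⟩, comap_hypIdeal_chart i G j]
    exact Ideal.subset_span rfl
  choose q hq using hq
  let p : ∀ j, Γ(P, LefPen13.V i j) := fun j => M2.pullSec i _ (gen d j)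
  have hqgen : ∀ j, Twist.IsGen (ClSub.idealMod I) (LefPen13.V i j) (q j) := fun j =>
    M2.isGenerator_idealMod I (U := ⟨LefPen13.V i j, LefPen13.isAffineOpen_V i j⟩) (f j) (hnz j)
      (comap_hypIdeal_chart i G j) (q j) (hq j)
  have hpgen : ∀ j, Twist.IsGen P (LefPen13.V i j) (p j) := fun j => (isGen_gen d j).pullback i
  have hpq : Twist.SameTransition (fun j => LefPen13.V i j) p q := by
    intro l j W hl hj t ht
    let D := LefPen.chart n k l ⊓ LefPen.chart n k j
    have hD : W ≤ i ⁻¹ᵁ D := le_inf hl hj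
    let t₀ : Γ(PS, D) := (PS).presheaf.map (homOfLE (inf_le_right : D ≤ LefPen.chart n k j)).op
      (LefPen.dehom (⟨X l, LefPen.X_mem n k l⟩ : LefPen.Form n k 1) j) ^ d
    let c : Γ(Y, W) := i.appLE D W hD t₀
    have hp : M1.mres P hj (p j) = c • M1.mres P hl (p l) := by
      have h0 := congrArg (M2.pullSec i (_root_.Twist.twistProjSpace n k (-(d : ℤ))) (U := D))
        (gen_rel d j l D inf_le_right inf_le_left)
      rw [M2.pullSec_smul] at h0
      have hres : ∀ (m : Fin (n + 1)) (hm : D ≤ LefPen.chart n k m) (hm' : W ≤ LefPen13.V i m),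
          M1.mres P hD (M2.pullSec i _ (U := D) (M1.mres _ hm (gen d m))) = M1.mres P hm' (p m) := by
        intro m hm hm'
        have e := (M1.app_mres ((Scheme.Modules.pullbackPushforwardAdjunction i).unit.app
          (_root_.Twist.twistProjSpace n k (-(d : ℤ)))) hm (gen d m)).symm
        refine (congrArg (M1.mres P hD) e.symm).trans ?_
        exact M1.mres_mres P (Scheme.Hom.preimage_mono i hm) hD _
      have h1 := congrArg (M1.mres P hD) h0
      rw [M1.mres_smul] at h1
      exact ((hres j inf_le_right hj).symm.trans h1).trans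
        (congrArg₂ (· • ·) (rfl : _ = c) (hres l inf_le_left hl))
    have htc : t = c := (hpgen l W hl).1 (ht.symm.trans hp)
    subst htc
    refine M2.idealIncl_injective I W ?_
    have hincl : ∀ (m : Fin (n + 1)) (hm : W ≤ LefPen13.V i m),
        M2.idealIncl I (M1.mres (ClSub.idealMod I) hm (q m)) =
          i.appLE (LefPen.chart n k m) W hm (LefPen.dehom G m) := fun m hm => by
      refine (M2.idealIncl_res I hm (q m)).trans ?_
      rw [hq]
      rfl
    rw [hincl]
    refine Eq.trans ?_ (M2.idealIncl_smul I _ _).symm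
    rw [hincl]
    have e := congrArg (i.appLE D W hD) (LefPen13.dehom_res G j l D inf_le_right inf_le_left)
    rw [map_mul] at e
    simp only [← ConcreteCategory.comp_apply, Scheme.Hom.map_appLE] at e
    refine e.trans ?_
    rw [mul_comm]
  obtain ⟨τ, -⟩ := Twist.exists_iso_of_gen (fun j => LefPen13.V i j) (LefPen13.iSup_V i) p q hpgen hqgen hpq
  exact ⟨τ.symm⟩

end Groth.Agent.CIProj14
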