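import Groth.Agent.Lib.CIProj14.Van
import Groth.Agent.Lib.Euler2.Hodge
import Groth.Agent.Lib.Snapper.Vanish
import Groth.Agent.S0845

/-!
Top cohomology of twists on a complete intersection.
-/

set_option autoImplicit false
set_option linter.style.haveILetI false
set_option backward.isDefEq.respectTransparency false
set_option backward.isDefEq.respectTransparency.types false
set_option maxHeartbeats 800000
set_option synthInstance.maxHeartbeats 400000

universe u

open CategoryTheory CategoryTheory.Limits AlgebraicGeometry TopologicalSpace Opposite MvPolynomial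

noncomputable section

namespace Groth.Agent.CIProj14

attribute [local instance] MvPolynomial.gradedAlgebra

open Groth.Agent Groth.Agent.M2 CohFound

variable {k : Type u} [Field k] {n : ℕ}

local notation "O(" i ")" => _root_.Twist.twistProjSpace n k i

/-- Top cohomology of twists vanishes above the critical degree `c` and not at it. -/
structure Top {X : Scheme.{u}} (j : X ⟶ CohB1.ProjSpace n k) (m : ℕ) (c : ℤ) : Prop where
  van : ∀ l : ℤ, c < l → Subsingleton (Coh.HH X ((Scheme.Modules.pullback j).obj O(l)) m)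
  ne : ¬ Subsingleton (Coh.HH X ((Scheme.Modules.pullback j).obj O(c)) m)

theorem subsingleton_HH_pullback_iff {X X' : Scheme.{u}} (e : X' ⟶ X) [IsIso e] (j : X ⟶ CohB1.ProjSpace n k)
    (l : ℤ) (p : ℕ) :
    Subsingleton (Coh.HH X' ((Scheme.Modules.pullback (e ≫ j)).obj O(l)) p) ↔
      Subsingleton (Coh.HH X ((Scheme.Modules.pullback j).obj O(l)) p) := by
  haveI := isIso_unit_of_isIso e ((Scheme.Modules.pullback j).obj O(l))
    (Twist.isQCoh_of_isInvertible (Twist.isInvertible_pullback j (Twist.isInvertible_twistProjSpace n k l)))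
  haveI : ((Scheme.Modules.pullback e).obj ((Scheme.Modules.pullback j).obj O(l))).IsQuasicoherent :=
    Twist.isQCoh_of_isInvertible (Twist.isInvertible_pullback e
      (Twist.isInvertible_pullback j (Twist.isInvertible_twistProjSpace n k l)))
  obtain ⟨ε⟩ := nonempty_hc_push_isAffineHom e ((Scheme.Modules.pullback e).obj ((Scheme.Modules.pullback j).obj O(l))) p ⊤
  rw [Scheme.Hom.preimage_top] at ε
  rw [subsingleton_HH_iff, subsingleton_HH_iff]
  constructor
  · intro h
    exact subsingleton_hc_of_iso (asIso ((Scheme.Modules.pullbackPushforwardAdjunction e).unit.app _)).symm p ⊤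
      (@Equiv.subsingleton _ _ ε.toEquiv (subsingleton_hc_of_iso ((Scheme.Modules.pullbackComp e j).app O(l)).symm p ⊤ h))
  · intro h
    exact subsingleton_hc_of_iso ((Scheme.Modules.pullbackComp e j).app O(l)) p ⊤
      (@Equiv.subsingleton _ _ ε.toEquiv.symm
        (subsingleton_hc_of_iso (asIso ((Scheme.Modules.pullbackPushforwardAdjunction e).unit.app _)) p ⊤ h))

theorem Top.of_iso {X X' : Scheme.{u}} {j : X ⟶ CohB1.ProjSpace n k} {m : ℕ} {c : ℤ} (h : Top j m c)
    (e : X' ⟶ X) [IsIso e] : Top (e ≫ j) m c :=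
  ⟨fun l hl => (subsingleton_HH_pullback_iff e j l m).2 (h.van l hl),
    fun hs => h.ne ((subsingleton_HH_pullback_iff e j c m).1 hs)⟩

variable {Y : Scheme.{u}} (i : Y ⟶ CohB1.ProjSpace n k) [IsAffineHom i]

/-- Cutting by a regular form moves the critical degree up by the degree. -/
theorem Top.step {d m : ℕ} {c : ℤ} (G : LefPen.Form n k d) (hm : 1 ≤ m) (hd : 1 ≤ d)
    (hnz : ∀ j, i.app (LefPen.chart n k j) (LefPen.dehom G j) ∈ nonZeroDivisors Γ(Y, LefPen13.V i j))
    (h : Good i (m + 1)) (ht : Top i (m + 1) c) :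
    Top (((LefPen.hypIdeal G).comap i).subschemeι ≫ i) m (c + d) := by
  let I := (LefPen.hypIdeal G).comap i
  obtain ⟨τ⟩ := nonempty_idealMod_iso i G hnz
  have hL : ∀ l : ℤ, PicF.IsInvertible ((Scheme.Modules.pullback i).obj O(l)) := fun l =>
    Twist.isInvertible_pullback i (Twist.isInvertible_twistProjSpace n k l)
  have hI : ∀ (l : ℤ) (p : ℕ), Nonempty (CohB1.tensorMod ((Scheme.Modules.pullback i).obj O(l)) (ClSub.idealMod I) ≅
      (Scheme.Modules.pullback i).obj O(l + -(d : ℤ))) := by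
    intro l p
    obtain ⟨μ⟩ := Twist.nonempty_tensor_iso (CohB1.polyGrading n k) (m := l) (n := -(d : ℤ))
      (Twist.iSup_basicOpen_one n k)
    exact ⟨tensorIso (Iso.refl _) τ ≪≫ (pullTensorIso i _ _).symm ≪≫ (Scheme.Modules.pullback i).mapIso μ⟩
  refine ⟨fun l hl => ?_, fun hs => ht.ne ?_⟩
  · rw [subsingleton_HH_iff]
    refine subsingleton_hc_of_iso ((Scheme.Modules.pullbackComp I.subschemeι i).app O(l)) m ⊤ ?_
    obtain ⟨e⟩ := hI l (m + 1)
    exact (subsingleton_HH_iff _ _).1 (subsingleton_HH_pullback I _ (hL l) m (h.van l m hm (by omega))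
      ((subsingleton_HH_iff _ _).2 (subsingleton_hc_of_iso e.symm (m + 1) ⊤
        ((subsingleton_HH_iff _ _).1 (ht.van _ (by omega))))))
  · obtain ⟨S, hS, ⟨e₁⟩, e₂, e₃, -⟩ := exists_shortExact I _ (hL (c + d))
    obtain ⟨e⟩ := hI (c + d) (m + 1)
    rw [subsingleton_HH_iff] at hs ⊢
    haveI : ((Scheme.Modules.pullback I.subschemeι).obj ((Scheme.Modules.pullback i).obj O(c + d))).IsQuasicoherent :=
      Twist.isQCoh_of_isInvertible (Twist.isInvertible_pullback I.subschemeι (hL (c + d)))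
    obtain ⟨ε⟩ := nonempty_hc_push_isAffineHom I.subschemeι
      ((Scheme.Modules.pullback I.subschemeι).obj ((Scheme.Modules.pullback i).obj O(c + d))) m ⊤
    rw [Scheme.Hom.preimage_top] at ε
    haveI : Subsingleton (Hc (S.map (abF Y)).X₃ m ⊤) := subsingleton_hc_of_iso e₃.symm m ⊤
      (@Equiv.subsingleton _ _ ε.toEquiv
        (subsingleton_hc_of_iso ((Scheme.Modules.pullbackComp I.subschemeι i).app O(c + d)).symm m ⊤ hs))
    haveI : Subsingleton (Hc (S.map (abF Y)).X₂ (m + 1) ⊤) := subsingleton_hc_of_iso e₂.symm (m + 1) ⊤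
      ((subsingleton_HH_iff _ _).1 (ht.van _ (by omega)))
    have h₁ : Subsingleton (Hc ((abF Y).obj S.X₁) (m + 1) ⊤) := by
      refine subsingleton_of_forall_eq 0 fun x => ?_
      obtain ⟨y, rfl⟩ := exact₁ (shortExact_abF hS) m ⊤ x (Subsingleton.elim _ _)
      rw [Subsingleton.elim y 0, map_zero]
    have := subsingleton_hc_of_iso (e₁ ≪≫ e) (m + 1) ⊤ h₁
    rwa [show c + (d : ℤ) + -(d : ℤ) = c by ring] at this

theorem top_id (hn : 1 ≤ n) : Top (𝟙 (CohB1.ProjSpace n k)) n (-((n : ℤ) + 1)) := by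
  have key : ∀ l : ℤ, Subsingleton (Coh.HH (CohB1.ProjSpace n k) ((Scheme.Modules.pullback (𝟙 _)).obj O(l)) n) ↔
      Subsingleton (Coh.HH (CohB1.ProjSpace n k) O(l) n) := fun l => by
    rw [subsingleton_HH_iff, subsingleton_HH_iff]
    exact ⟨subsingleton_hc_of_iso ((Scheme.Modules.pullbackId _).app O(l)) n ⊤,
      subsingleton_hc_of_iso ((Scheme.Modules.pullbackId _).app O(l)).symm n ⊤⟩
  refine ⟨fun l hl => (key l).2 ?_, fun h => ?_⟩
  · exact (subsingleton_HH_iff _ _).2 (ProjNum.subsingleton_hc_Od (n := n) (R := k) (d := l) n (by omega) (Or.inl (by omega)))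
  · obtain ⟨e⟩ := S0845.result k n 0
    have h' := (key _).1 h
    rw [show (-((n : ℤ) + 1)) = -((n : ℤ) + 1 + ((0 : ℕ) : ℤ)) by push_cast; ring] at h'
    haveI := e.symm.toEquiv.subsingleton
    refine one_ne_zero (α := k) ?_
    have := Subsingleton.elim (⟨C 1, isHomogeneous_C _ 1⟩ : ↥(homogeneousSubmodule (Fin (n + 1)) k 0)) 0
    exact C_injective _ _ ((congrArg Subtype.val this).trans (map_zero C).symm)

/-- The critical degree of a complete intersection. -/
theorem top_ciIdeal : ∀ (r : ℕ) (a : Fin r → ℕ) (G : ∀ m : Fin r, LefPen.Form n k (a m)),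
    (∀ m, 1 ≤ a m) → r < n →
    topologicalKrullDim ↥(LefPen.ciIdeal G).subscheme ≤ ((n - r : ℕ) : WithBot ℕ∞) →
    Top (LefPen.ciIdeal G).subschemeι (n - r) ((∑ m, (a m : ℤ)) - n - 1) := by
  intro r
  induction r with
  | zero =>
    intro a G _ hn _
    have hbot : LefPen.ciIdeal G = ⊥ := iSup_of_empty _
    haveI : IsIso (LefPen.ciIdeal G).subschemeι := by rw [hbot]; infer_instance
    have := (top_id (k := k) (by omega : 1 ≤ n)).of_iso (LefPen.ciIdeal G).subschemeι
    rw [Category.comp_id] at this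
    rw [Finset.univ_eq_empty, Finset.sum_empty, show (0 : ℤ) - n - 1 = -((n : ℤ) + 1) by ring]
    exact this
  | succ r ih =>
    intro a G ha hr hdim
    let J := LefPen.ciIdeal (fun m : Fin r => G m.castSucc)
    have hd' := dim_castSucc_le G ha hr.le hdim
    have h0 : Good J.subschemeι (n - (r + 1) + 1) := by
      rw [show n - (r + 1) + 1 = n - r by omega]
      exact good_ciIdeal r _ _ (fun m => ha m.castSucc) (by omega) hd'
    have t0 : Top J.subschemeι (n - (r + 1) + 1) ((∑ m : Fin r, (a m.castSucc : ℤ)) - n - 1) := by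
      rw [show n - (r + 1) + 1 = n - r by omega]
      exact ih _ _ (fun m => ha m.castSucc) (by omega) hd'
    have h1 := t0.step J.subschemeι (G (Fin.last r)) (by omega) (ha _) (last_mem_nonZeroDivisors G hr.le hdim) h0
    obtain ⟨e, he, hfac⟩ := isIso_lift (LefPen.ciIdeal G).subschemeι
      (((LefPen.hypIdeal (G (Fin.last r))).comap J.subschemeι).subschemeι ≫ J.subschemeι)
      (by rw [ker_comp_eq, Scheme.IdealSheafData.ker_subschemeι, ciIdeal_succ])
    haveI := he
    have h2 := h1.of_iso e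
    rw [hfac] at h2
    rw [Fin.sum_univ_castSucc, show (∑ m : Fin r, (a m.castSucc : ℤ)) + (a (Fin.last r) : ℤ) - n - 1 =
      (∑ m : Fin r, (a m.castSucc : ℤ)) - n - 1 + (a (Fin.last r) : ℤ) by ring]
    exact h2

/-- A finite sum has no cohomology where the summands have none. -/
theorem subsingleton_hc_sigma {X : Scheme.{u}} {N : ℕ} (F : Fin N → X.Modules) (q : ℕ)
    (h : ∀ i, Subsingleton (Hc ((abF X).obj (F i)) q ⊤)) : Subsingleton (Hc ((abF X).obj (∐ F)) q ⊤) := by
  classical
  let π : ∀ i, (∐ F) ⟶ F i := fun i => Sigma.desc fun j => if h : j = i then eqToHom (congrArg F h) else 0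
  have hid : ∑ i, π i ≫ Sigma.ι F i = 𝟙 (∐ F) := by
    refine Sigma.hom_ext _ _ fun j => ?_
    rw [Preadditive.comp_sum, Category.comp_id, Finset.sum_eq_single j]
    · simp [π]
    · intro b _ hb; simp [π, Ne.symm hb]
    · simp
  refine subsingleton_of_forall_eq 0 fun x => ?_
  have hs : ∀ t : Finset (Fin N), mp ((abF X).map (∑ i ∈ t, π i ≫ Sigma.ι F i)) q ⊤ x = 0 := by
    intro t
    induction t using Finset.cons_induction with
    | empty => rw [Finset.sum_empty, Functor.map_zero, mp_zero]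
    | cons i s hi ih =>
      rw [Finset.sum_cons, Functor.map_add, mp_add, ih, add_zero, Functor.map_comp, mp_comp,
        (h i).elim (mp _ q ⊤ x) 0, map_zero]
  have := hs Finset.univ
  rwa [hid, CategoryTheory.Functor.map_id, mp_id] at this

/-- In the top degree vanishing propagates upwards. -/
theorem subsingleton_top_succ {X : Scheme.{u}} (j : X ⟶ CohB1.ProjSpace n k) [IsClosedImmersion j] (m : ℕ)
    (hdim : topologicalKrullDim ↥X ≤ ((m : ℕ) : WithBot ℕ∞)) (l : ℤ)
    (h : Subsingleton (Coh.HH X ((Scheme.Modules.pullback j).obj O(l)) m)) :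
    Subsingleton (Coh.HH X ((Scheme.Modules.pullback j).obj O(l + 1)) m) := by
  haveI : IsProper (CohB1.ProjSpace.toSpec n k) := ProjSpace.isProper_toSpec n k
  letI : X.Over (Spec (CommRingCat.of k)) := ⟨j ≫ CohB1.ProjSpace.toSpec n k⟩
  haveI : IsProper (X ↘ Spec (CommRingCat.of k)) := inferInstanceAs (IsProper (j ≫ CohB1.ProjSpace.toSpec n k))
  obtain ⟨S, hS, -, ⟨e₃⟩, ⟨e₂⟩⟩ := Euler2.exists_ses_free n k 0 (l + 1)
  obtain ⟨z⟩ := Euler2.nonempty_Om_zero n k (l + 1)
  haveI := hS.epi_g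
  let P := Scheme.Modules.pullback j
  haveI : Epi (P.map S.g) := inferInstance
  let T : ShortComplex X.Modules := ShortComplex.mk (kernel.ι (P.map S.g)) (P.map S.g) (kernel.condition _)
  have hT : T.ShortExact := ShortComplex.ShortExact.mk' (ShortComplex.exact_kernel _) inferInstance inferInstance
  have hO : ∀ d : ℤ, Coh.IsQCoh (P.obj O(d)) := fun d =>
    Twist.isQCoh_of_isInvertible (Twist.isInvertible_pullback j (Twist.isInvertible_twistProjSpace n k d))
  let G := fun _ : Fin (Nat.choose (n + 1) (0 + 1)) => Coh.structureModule (CohB1.ProjSpace n k)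
  let E := O(l + 1 - ((0 + 1 : ℕ) : ℤ))
  let u : P.obj S.X₂ ≅ ∐ fun _ : Fin (Nat.choose (n + 1) (0 + 1)) => P.obj O(l) :=
    P.mapIso (e₂ ≪≫ PreservesCoproduct.iso (tensorR E) G) ≪≫ PreservesCoproduct.iso P _ ≪≫
      Limits.Sigma.mapIso fun _ => P.mapIso (tensorLUnit E ≪≫ eqToIso (congrArg (_root_.Twist.twistProjSpace n k) (by simp)))
  have hK : Coh.IsQCoh (kernel (P.map S.g)) := by
    refine M1.isQCoh_kernel ?_ ?_ (P.map S.g)
    · exact M1.isQCoh_of_isIso (P.mapIso e₂).symm (M2.isQCoh_of_isFinLocFree (M2.isFinLocFree_pullback j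
        (M2.isFinLocFree_tensor (Euler2.isFinLocFree_freeMod _ _)
          (M2.isFinLocFree_of_isInvertible (Twist.isInvertible_twistProjSpace n k _)))))
    · exact M1.isQCoh_of_isIso (P.mapIso (e₃ ≪≫ z)).symm (hO (l + 1))
  rw [subsingleton_HH_iff] at h ⊢
  haveI : Subsingleton (Hc (T.map (abF X)).X₂ m ⊤) :=
    subsingleton_hc_of_iso u.symm m ⊤ (subsingleton_hc_sigma _ m fun _ => h)
  haveI : Subsingleton (Hc (T.map (abF X)).X₁ (m + 1) ⊤) :=
    (subsingleton_HH_iff _ _).1 (Snapper.subsingleton_HH_of_dim k m hdim hK (Nat.lt_succ_self m))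
  refine subsingleton_hc_of_iso (P.mapIso (e₃ ≪≫ z)) m ⊤ (subsingleton_of_forall_eq 0 fun x => ?_)
  obtain ⟨y, rfl⟩ := exact₃ (shortExact_abF hT) m ⊤ x (Subsingleton.elim _ _)
  rw [Subsingleton.elim y 0, map_zero]

theorem not_subsingleton_top_of_le {X : Scheme.{u}} (j : X ⟶ CohB1.ProjSpace n k) [IsClosedImmersion j] {m : ℕ}
    (hdim : topologicalKrullDim ↥X ≤ ((m : ℕ) : WithBot ℕ∞)) {c l : ℤ} (ht : Top j m c) (hl : l ≤ c) :
    ¬ Subsingleton (Coh.HH X ((Scheme.Modules.pullback j).obj O(l)) m) := fun h => ht.ne (by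
  obtain ⟨s, rfl⟩ : ∃ s : ℕ, l + s = c := ⟨(c - l).toNat, by omega⟩
  clear hl ht
  induction s generalizing l with
  | zero => simpa using h
  | succ s ih =>
    have := ih (subsingleton_top_succ j m hdim l h)
    rwa [show l + 1 + (s : ℤ) = l + ((s + 1 : ℕ) : ℤ) by push_cast; ring] at this)

end Groth.Agent.CIProj14
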